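import Groth.Agent.Lib.CI2.SplitCover
import Groth.Prelude.Def_Mor2

/-!
# Finite morphisms are covered by unions of sections after a finite free base change
-/

set_option autoImplicit false
set_option linter.style.haveILetI false

universe u

open Polynomial CategoryTheory CategoryTheory.Limits AlgebraicGeometry TensorProduct

namespace Groth.Agent.SectCover3

/-- The universal algebra with a chosen root of each of finitely many monic polynomials. -/
theorem exists_rootAlgebra (A : Type u) [CommRing A] : ∀ (n : ℕ) (P : Fin n → A[X]), (∀ i, (P i).Monic) →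
    ∃ (C : Type u) (_ : CommRing C) (_ : Algebra A C) (t : Fin n → C), Module.Finite A C ∧ Module.Free A C ∧
      (∀ i, aeval (t i) (P i) = 0) ∧ Algebra.adjoin A (Set.range t) = ⊤ ∧
      ∀ (B : Type u) [CommRing B] [Algebra A B] (b : Fin n → B), (∀ i, aeval (b i) (P i) = 0) →
        ∃ φ : C →ₐ[A] B, ∀ i, φ (t i) = b i := by
  intro n
  induction n with
  | zero =>
    intro P _
    exact ⟨A, inferInstance, inferInstance, Fin.elim0, inferInstance, inferInstance, fun i => i.elim0,
      Subsingleton.elim _ _, fun B _ _ b _ => ⟨Algebra.ofId A B, fun i => i.elim0⟩⟩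
  | succ n ih =>
    intro P hP
    obtain ⟨C, iC, aC, t, hfin, hfree, ht, htop, huniv⟩ := ih (fun i => P i.succ) (fun i => hP i.succ)
    let p : C[X] := (P 0).map (algebraMap A C)
    have hp : p.Monic := (hP 0).map _
    haveI : Module.Finite C (AdjoinRoot p) := hp.finite_adjoinRoot
    haveI : Module.Free C (AdjoinRoot p) := hp.free_adjoinRoot
    haveI : IsScalarTower A C (AdjoinRoot p) := inferInstance
    refine ⟨AdjoinRoot p, inferInstance, inferInstance,
      Fin.cons (AdjoinRoot.root p) (fun i => algebraMap C (AdjoinRoot p) (t i)), Module.Finite.trans C _,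
      Module.Free.trans (S := C), ?_, ?_, ?_⟩
    · intro i
      induction i using Fin.cases with
      | zero =>
        rw [Fin.cons_zero, ← aeval_map_algebraMap C, show (P 0).map (algebraMap A C) = p from rfl, AdjoinRoot.aeval_eq,
          AdjoinRoot.mk_self]
      | succ j => rw [Fin.cons_succ, aeval_algebraMap_apply, ht j, map_zero]
    · rw [eq_top_iff]
      intro z hz
      clear hz
      obtain ⟨q, rfl⟩ := AdjoinRoot.mk_surjective z
      let S := Algebra.adjoin A (Set.range
        (Fin.cons (AdjoinRoot.root p) (fun i => algebraMap C (AdjoinRoot p) (t i)) : Fin (n + 1) → AdjoinRoot p))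
      have hC : ∀ c : C, algebraMap C (AdjoinRoot p) c ∈ S := by
        intro c
        have hc : c ∈ Algebra.adjoin A (Set.range t) := by rw [htop]; trivial
        refine (Algebra.adjoin_le (S := S.comap (IsScalarTower.toAlgHom A C (AdjoinRoot p))) ?_) hc
        rintro _ ⟨i, rfl⟩
        exact Algebra.subset_adjoin ⟨i.succ, Fin.cons_succ (α := fun _ => AdjoinRoot p) _ _ i⟩
      induction q using Polynomial.induction_on' with
      | add a b ha hb => rw [map_add]; exact add_mem ha hb
      | monomial k c =>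
        rw [← C_mul_X_pow_eq_monomial, map_mul, map_pow, AdjoinRoot.mk_X, AdjoinRoot.mk_C]
        have hroot' : AdjoinRoot.root p ∈ S :=
          Algebra.subset_adjoin ⟨(0 : Fin (n + 1)), Fin.cons_zero (α := fun _ => AdjoinRoot p) _ _⟩
        exact mul_mem (hC c) (pow_mem hroot' _)
    · intro B _ _ b hb
      obtain ⟨φ, hφ⟩ := huniv B (fun i => b i.succ) (fun i => hb i.succ)
      have h0 : p.eval₂ (φ : C →ₐ[A] B).toRingHom (b 0) = 0 := by
        show ((P 0).map (algebraMap A C)).eval₂ _ _ = 0
        rw [eval₂_map, show (φ : C →ₐ[A] B).toRingHom.comp (algebraMap A C) = algebraMap A B from φ.comp_algebraMap, ← aeval_def, hb 0]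
      refine ⟨AdjoinRoot.liftAlgHom p φ (b 0) h0, fun i => ?_⟩
      induction i using Fin.cases with
      | zero => rw [Fin.cons_zero]; exact AdjoinRoot.liftAlgHom_root _ _ _ _
      | succ j =>
        rw [Fin.cons_succ, AdjoinRoot.algebraMap_eq]
        exact (AdjoinRoot.liftAlgHom_of _ _ _ _ _).trans (hφ j)

variable {A C : Type u} [CommRing A] [CommRing C] [Algebra A C]

theorem sub_algebraMap_mem {ι : Type} {t : ι → C} (htop : Algebra.adjoin A (Set.range t) = ⊤) (s : C →ₐ[A] A)
    (c : C) : c - algebraMap A C (s c) ∈ Ideal.span (Set.range fun i => t i - algebraMap A C (s (t i))) := by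
  have hc : c ∈ Algebra.adjoin A (Set.range t) := by rw [htop]; trivial
  induction hc using Algebra.adjoin_induction with
  | mem x hx => obtain ⟨i, rfl⟩ := hx; exact Ideal.subset_span ⟨i, rfl⟩
  | algebraMap r => rw [AlgHom.commutes, Algebra.algebraMap_self, RingHom.id_apply, sub_self]; exact zero_mem _
  | add x y _ _ hx hy =>
    rw [map_add, map_add, add_sub_add_comm]; exact add_mem hx hy
  | mul x y _ _ hx hy =>
    rw [map_mul, map_mul, show x * y - algebraMap A C (s x) * algebraMap A C (s y) =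
      x * (y - algebraMap A C (s y)) + algebraMap A C (s y) * (x - algebraMap A C (s x)) by ring]
    exact add_mem (Ideal.mul_mem_left _ _ hy) (Ideal.mul_mem_left _ _ hx)

/-- The ring form: finitely many sections cover the spectrum. -/
theorem exists_cover (A B : Type u) [CommRing A] [CommRing B] [Algebra A B] [Module.Finite A B] :
    ∃ (A' : Type u) (_ : CommRing A') (_ : Algebra A A') (C : Type u) (_ : CommRing C) (_ : Algebra A' C)
      (π : C →ₐ[A'] A' ⊗[A] B) (m : ℕ) (s : Fin m → (C →ₐ[A'] A')),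
      Module.Finite A A' ∧ Module.Free A A' ∧ Function.Injective (algebraMap A A') ∧
      Module.Finite A' C ∧ Module.Free A' C ∧ Function.Surjective π ∧
      ∀ q : PrimeSpectrum C, ∃ j, RingHom.ker (s j).toRingHom ≤ q.asIdeal := by
  classical
  obtain ⟨n, b, hb⟩ := Submodule.fg_iff_exists_fin_generating_family.1 (Module.Finite.fg_top (R := A) (M := B))
  have hint : ∀ i, IsIntegral A (b i) := fun i => IsIntegral.of_finite A (b i)
  choose P hPm hP using hint
  obtain ⟨A', iA', aA', hfin, hfree, hinj, hsplit⟩ :=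
    CI2.SplitCover.exists_split_list (List.ofFn P) (fun f hf => by
      obtain ⟨i, rfl⟩ := List.mem_ofFn.1 hf; exact hPm i)
  choose r hr using fun i => hsplit (P i) (List.mem_ofFn.2 ⟨i, rfl⟩)
  obtain ⟨C, iC, aC, t, hCfin, hCfree, ht, htop, huniv⟩ :=
    exists_rootAlgebra A' n (fun i => (P i).map (algebraMap A A')) (fun i => (hPm i).map _)
  have hb' : ∀ i, aeval ((1 : A') ⊗ₜ[A] b i) ((P i).map (algebraMap A A')) = 0 := fun i => by
    rw [aeval_map_algebraMap, ← Algebra.TensorProduct.includeRight_apply, aeval_algHom_apply]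
    rw [show aeval (b i) (P i) = 0 from hP i, map_zero]
  obtain ⟨π, hπ⟩ := huniv (A' ⊗[A] B) _ hb'
  have hπs : Function.Surjective π := by
    intro z
    induction z using TensorProduct.induction_on with
    | zero => exact ⟨0, map_zero π⟩
    | add x y hx hy =>
      obtain ⟨x, rfl⟩ := hx; obtain ⟨y, rfl⟩ := hy
      exact ⟨x + y, map_add π x y⟩
    | tmul a x =>
      have hx : x ∈ Submodule.span A (Set.range b) := by rw [hb]; trivial
      obtain ⟨c, rfl⟩ := (Submodule.mem_span_range_iff_exists_fun A).1 hx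
      refine ⟨∑ i, algebraMap A' C (a * algebraMap A A' (c i)) * t i, ?_⟩
      rw [map_sum, TensorProduct.tmul_sum]
      refine Finset.sum_congr rfl fun i _ => ?_
      rw [map_mul, π.commutes, hπ, TensorProduct.tmul_smul, Algebra.TensorProduct.algebraMap_apply,
        Algebra.TensorProduct.tmul_mul_tmul, mul_one, one_mul, Algebra.algebraMap_self, RingHom.id_apply,
        TensorProduct.smul_tmul', Algebra.smul_def, mul_comm]
  let J := ∀ i, {a : A' // a ∈ (r i).toFinset}
  have hroot : ∀ (f : J) (i : Fin n), aeval (f i).1 ((P i).map (algebraMap A A')) = 0 := fun f i => by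
    rw [coe_aeval_eq_eval, hr i, eval_multiset_prod, Multiset.map_map]
    exact Multiset.prod_eq_zero (Multiset.mem_map.2 ⟨(f i).1, Multiset.mem_toFinset.1 (f i).2, by simp⟩)
  choose s hs using fun f : J => huniv A' (fun i => (f i).1) (hroot f)
  let e := Fintype.equivFin J
  refine ⟨A', iA', aA', C, iC, aC, π, Fintype.card J, fun j => s (e.symm j), hfin, hfree, hinj, hCfin, hCfree,
    hπs, fun q => ?_⟩
  have hex : ∀ i, ∃ a ∈ (r i).toFinset, t i - algebraMap A' C a ∈ q.asIdeal := fun i => by
    have h0 : (((r i).map fun a => t i - algebraMap A' C a)).prod = 0 := by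
      rw [← ht i, hr i, map_multiset_prod, Multiset.map_map]
      congr 1
      refine Multiset.map_congr rfl fun a _ => ?_
      simp
    obtain ⟨x, hx, hxq⟩ := (q.isPrime.multiset_prod_mem_iff_exists_mem _).1 (by rw [h0]; exact zero_mem q.asIdeal)
    obtain ⟨a, ha, rfl⟩ := Multiset.mem_map.1 hx
    exact ⟨a, Multiset.mem_toFinset.2 ha, hxq⟩
  choose a ha haq using hex
  refine ⟨e (fun i => ⟨a i, ha i⟩), fun c hc => ?_⟩
  simp only [Equiv.symm_apply_apply] at hc
  have h1 := sub_algebraMap_mem htop (s fun i => ⟨a i, ha i⟩) c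
  rw [show (s fun i => ⟨a i, ha i⟩) c = 0 from hc, map_zero, sub_zero] at h1
  refine Ideal.span_le.2 ?_ h1
  rintro _ ⟨i, rfl⟩
  show t i - algebraMap A' C _ ∈ q.asIdeal
  rw [hs]
  exact haq i

/-- The scheme form. -/
theorem exists_cover_scheme {X Y : Scheme.{u}} [IsAffine X] (f : Y ⟶ X) [IsFinite f] :
    ∃ (X' : Scheme.{u}) (b : X' ⟶ X) (Z' : Scheme.{u}) (c : Z' ⟶ X') (i : pullback f b ⟶ Z'),
      Mor2.IsFinLocFree b ∧ Surjective b ∧ Mor2.IsFinLocFree c ∧ IsClosedImmersion i ∧
      i ≫ c = pullback.snd f b ∧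
      ∃ (m : ℕ) (Zj : Fin m → Scheme.{u}) (ιj : ∀ j, Zj j ⟶ Z'),
        (∀ j, IsClosedImmersion (ιj j)) ∧ (∀ j, IsIso (ιj j ≫ c)) ∧
        (⋃ j, Set.range (ιj j).base) = Set.univ := by
  haveI : IsAffine Y := isAffine_of_isAffineHom f
  have hf : f.appTop.hom.Finite := ((HasAffineProperty.iff_of_isAffine (P := @IsFinite)).1 inferInstance).2
  algebraize [f.appTop.hom]
  obtain ⟨A', _, _, C, _, _, π, m, s, hfin, hfree, hinj, hCfin, hCfree, hπs, hcov⟩ :=
    exists_cover Γ(X, ⊤) Γ(Y, ⊤)
  let b₀ : Spec (CommRingCat.of A') ⟶ Spec Γ(X, ⊤) :=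
    Spec.map (CommRingCat.ofHom (algebraMap Γ(X, ⊤) A'))
  let b : Spec (CommRingCat.of A') ⟶ X := b₀ ≫ X.isoSpec.inv
  have hpb : IsPullback
      (Spec.map (CommRingCat.ofHom (Algebra.TensorProduct.includeRight : Γ(Y, ⊤) →ₐ[Γ(X, ⊤)] A' ⊗[Γ(X, ⊤)] Γ(Y, ⊤)).toRingHom) ≫
        Y.isoSpec.inv)
      (Spec.map (CommRingCat.ofHom (algebraMap A' (A' ⊗[Γ(X, ⊤)] Γ(Y, ⊤))))) f b := by
    refine IsPullback.paste_horiz
      (isPullback_SpecMap_of_isPushout _ _ _ _ (CommRingCat.isPushout_tensorProduct Γ(X, ⊤) A' Γ(Y, ⊤))).flip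
      (IsPullback.of_horiz_isIso ⟨?_⟩)
    rw [Iso.inv_comp_eq, ← Category.assoc, Iso.eq_comp_inv]
    exact (Scheme.isoSpec_hom_naturality f).symm
  let c : Spec (CommRingCat.of C) ⟶ Spec (CommRingCat.of A') := Spec.map (CommRingCat.ofHom (algebraMap A' C))
  let i₀ : Spec (CommRingCat.of (A' ⊗[Γ(X, ⊤)] Γ(Y, ⊤))) ⟶ Spec (CommRingCat.of C) :=
    Spec.map (CommRingCat.ofHom π.toRingHom)
  haveI : IsClosedImmersion i₀ := IsClosedImmersion.spec_of_surjective _ hπs
  have hflf : ∀ {R S : Type u} [CommRing R] [CommRing S] [Algebra R S] [Module.Finite R S] [Module.Free R S],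
      Mor2.IsFinLocFree (Spec.map (CommRingCat.ofHom (algebraMap R S))) := fun {R S} _ _ _ _ _ =>
    ⟨(IsFinite.SpecMap_iff _).2 (RingHom.finite_algebraMap.2 inferInstance),
      Flat.SpecMap_iff.2 (RingHom.flat_algebraMap_iff.2 inferInstance),
      (HasRingHomProperty.Spec_iff (P := @LocallyOfFinitePresentation)).2
        (RingHom.finitePresentation_algebraMap.2 CI2.SplitCover.fp_of_free)⟩
  refine ⟨_, b, _, c, hpb.isoPullback.inv ≫ i₀, ?_, ?_, hflf, inferInstance, ?_, m,
    fun _ => Spec (CommRingCat.of A'), fun j => Spec.map (CommRingCat.ofHom (s j).toRingHom), ?_, ?_, ?_⟩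
  · obtain ⟨h1, h2, h3⟩ := hflf (R := Γ(X, ⊤)) (S := A')
    exact ⟨(inferInstance : IsFinite b), (inferInstance : Flat b), (inferInstance : LocallyOfFinitePresentation b)⟩
  · haveI : Surjective b₀ := ⟨CI2.SplitCover.surjective_comap hinj⟩
    infer_instance
  · rw [Category.assoc, Iso.inv_comp_eq, hpb.isoPullback_hom_snd]
    show Spec.map _ ≫ Spec.map _ = _
    rw [← Spec.map_comp, ← CommRingCat.ofHom_comp]
    congr 2
    exact π.comp_algebraMap
  · intro j
    exact IsClosedImmersion.spec_of_surjective _ fun a => ⟨algebraMap A' C a, (s j).commutes a⟩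
  · intro j
    have : Spec.map (CommRingCat.ofHom (s j).toRingHom) ≫ c = 𝟙 _ := by
      show Spec.map _ ≫ Spec.map _ = _
      rw [← Spec.map_comp, ← CommRingCat.ofHom_comp, ← Spec.map_id]
      congr 1
      ext a
      exact (s j).commutes a
    rw [this]; infer_instance
  · refine Set.eq_univ_of_forall fun q => ?_
    obtain ⟨j, hj⟩ := hcov q
    have hsur : Function.Surjective (s j).toRingHom := fun a => ⟨algebraMap A' C a, (s j).commutes a⟩
    refine Set.mem_iUnion.2 ⟨j, ?_⟩
    show q ∈ Set.range (PrimeSpectrum.comap (s j).toRingHom)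
    rw [range_comap_of_surjective _ _ hsur]
    exact hj

end Groth.Agent.SectCover3
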